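import Mathlib
import Cfsg.Agent.Rec.U43.Trees
import Cfsg.Agent.Rec.X32.Gen2
import Cfsg.Agent.Rec.Sim
import Cfsg.Agent.Rec.Top
import Cfsg.Agent.Rec.UQ
import Cfsg.Agent.GT.FourGroup
import Cfsg.Agent.Spor.LC.U43
import Cfsg.Agent.S0283
import Cfsg.Agent.Spor.ESBasic
import Cfsg.Agent.GT.TransferSylow
import Cfsg.Agent.GT.Conj

/-!
Groups with an involution centraliser as in `U₄(3)` and an involution `n` interchanging `z` and `s`: the relators of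
`U₄(3)` hold, and the group is `U₄(3)`.
-/

set_option autoImplicit false
set_option synthInstance.maxSize 100000
set_option synthInstance.maxHeartbeats 1000000
set_option linter.unusedSectionVars false

namespace Cfsg.Agent.Rec

open Cfsg.Agent.Spor Cfsg.Agent.Inv.Fz Subgroup

universe u

section

variable {G : Type u} [Group G]

/-- A non-trivial normal subgroup contains the centre of a self-centralising normal extraspecial subgroup. -/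
theorem mem_of_normal_es {xs : List G} {R K : Subgroup G} [Finite R] {z : G}
    (h : (∀ y ∈ {y | y ∈ xs}, ∀ r ∈ R, y * r * y⁻¹ ∈ R) ∧ (∀ g ∈ clos xs, (∀ r ∈ R, g * r = r * g) → g ∈ R) ∧
      (∀ k ∈ R, k ≠ 1 → k = z ∨ ∃ q ∈ R, q * k * q⁻¹ * k⁻¹ = z) ∧ R ≤ clos xs) (hK : K ≤ clos xs)
    (hn : ∀ g ∈ clos xs, ∀ k ∈ K, g * k * g⁻¹ ∈ K) (h1 : K ≠ ⊥) : z ∈ K := by
  obtain ⟨⟨k, hk, hq⟩, hk1⟩ := ne_bot_iff_exists_ne_one.1 (inf_ne_bot_of_self_centralizing h.2.2.2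
    (fun g hg => le_normalizer_clos h.1 hg) h.2.1 hK hn h1)
  rcases h.2.2.1 k hq (fun e => hk1 (Subtype.ext e)) with rfl | ⟨q, hq', h4⟩
  · exact hk
  · exact h4 ▸ K.mul_mem (hn q (h.2.2.2 hq') k hk) (K.inv_mem hk)

/-- The permutation induced by `g` on words, from the images of the letters. -/
theorem ct_of_map {A : Ar} {C : Cod A G} {c c' : List ℕ} {e e' : List G} {g : G} (h : C.RepL c e) (h' : C.RepL c' e')
    (he : e.map (MulAut.conj g).toMonoidHom = e') (W : List (List ℕ)) {n o : ℕ} {ho : oneOK n o = true} {s : ℕ}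
    {σ : Equiv.Perm (Fin n)} (hs : (permCod ho).Rep s σ)
    (hc : allLt n (fun i => Nat.beq (evC A c' (nth [] W i)) (evC A c (nth [] W (at8 s i)))) = true) :
    CT (nth 1 (W.map (evalW (nth 1 e)))) g σ := fun i => by
  have h1 := (nbeq_iff _ _).1 ((allLt_iff _ _).1 hc i i.2)
  rw [pcode_of_rep hs, at8_pcode (oneOK_sound ho).1] at h1
  rw [nth_words, nth_words, ← ((h'.word _).eq_iff (h.word _)).1 h1, ← he]
  exact (map_evalW (MulAut.conj g).toMonoidHom _ _).trans (evalW_congr fun x _ => (nth_map _ e x).symm)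

end

namespace U43

/-- The permutations of sixteen elements with the codes `cP`. -/
noncomputable def pm16 (i : ℕ) : Equiv.Perm (Fin 16) := nth 1 (cP.map fun a => permOf 16 (at8 a)) i

theorem repP : (permCod A16_ok).RepL cP [pm16 0, pm16 1, pm16 2, pm16 3, pm16 4, pm16 5] :=
  (repL_permOf A16_ok cP_ok).pick [0, 1, 2, 3, 4, 5]

theorem p1 : (pm16 1 * pm16 2) ^ 5 = 1 ∧ (pm16 0 * pm16 1 * pm16 2) ^ 4 = 1 ∧ (pm16 3 * pm16 4 * pm16 5) ^ 5 = 1 ∧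
    (pm16 4 * pm16 5) ^ 4 = 1 := Cod.listsL_nil.decide repP (by decide +kernel)

variable {G : Type u} [Group G]

theorem codH {e : List G} (hl : e.length = 11) (hs : Sat relH e) (hz : nth 1 e 0 ≠ 1) :
    ∃ C : Cod A G, C.RepL cH e := by
  have h₀ := repL_permOf A_ok cH_ok
  generalize List.map _ cH = e₀ at h₀
  have hQ := (h₀.pick [0, 1, 2, 3, 4]).gen Q_ok
  generalize clos (List.map (nth 1 e₀) [0, 1, 2, 3, 4]) = R at hQ
  refine presH.cod_of_normal h₀ (h₀.sat (by decide +kernel)) h₀.length_eq.symm (h₀.gen H_ok).2 (W := [[0]])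
    (fun K hK hn h1 => ⟨[0], by simp, ?_⟩) hs hl (by simpa using hz)
  have hL := h₀.lists.cons ((h₀.gen H_ok).1.cons (hQ.1.cons Cod.listsL_nil))
  have hF : Finite R := Nat.finite_of_card_ne_zero (by rw [hQ.2]; norm_num)
  exact mem_of_normal_es (R := R) (hL.decide ((h₀.word [0]).cons Cod.repL_nil) (by decide +kernel)) hK hn h1

/-- The letters: `z, …, e` generate the centraliser of `z`. -/
structure St (G : Type u) [Group G] where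
  (z s a b c f g d e n : G)
  C : Cod A G
  rep : C.RepL cH [z, s, a, b, c, f, g, d, d⁻¹, e, e⁻¹]
  cent : centralizer {z} = clos [z, s, a, b, c, f, g, d, d⁻¹, e, e⁻¹]
  n2 : n * n = 1
  nz : n * z * n⁻¹ = s
  na : n * a * n⁻¹ = f
  nb : n * b * n⁻¹ = g
  nc : (n * c) ^ 3 = 1

namespace St

variable (σ : St G)

/-- The letters of the presentation. -/
abbrev l : List G := [σ.z, σ.s, σ.a, σ.b, σ.c, σ.f, σ.g, σ.d, σ.d⁻¹, σ.n, σ.e, σ.e⁻¹]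
/-- The centraliser. -/
def H : Subgroup G := clos [σ.z, σ.s, σ.a, σ.b, σ.c, σ.f, σ.g, σ.d, σ.d⁻¹, σ.e, σ.e⁻¹]
/-- A Sylow 2-subgroup. -/
def T : Subgroup G := clos [σ.z, σ.s, σ.a, σ.b, σ.c, σ.f, σ.g]
/-- A Sylow 3-subgroup of the centraliser. -/
def B : Subgroup G := clos [σ.d, σ.e]
/-- The first group of order sixteen. -/
def E : Subgroup G := clos [σ.z, σ.s, σ.a, σ.f]
/-- The second group of order sixteen. -/
def F : Subgroup G := clos [σ.z, σ.s, σ.b, σ.g]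

theorem gH : σ.C.Lists H_t.dom σ.H ∧ Nat.card σ.H = 1152 := σ.rep.gen H_ok
theorem gT : σ.C.Lists T_t.dom σ.T ∧ Nat.card σ.T = 128 := (σ.rep.pick [0, 1, 2, 3, 4, 5, 6]).gen T_ok
theorem gB : σ.C.Lists B_t.dom σ.B ∧ Nat.card σ.B = 9 := (σ.rep.pick [7, 9]).gen B_ok
theorem gE : σ.C.Lists E_t.dom σ.E ∧ Nat.card σ.E = 16 := (σ.rep.pick [0, 1, 2, 5]).gen E_ok
theorem gF : σ.C.Lists F_t.dom σ.F ∧ Nat.card σ.F = 16 := (σ.rep.pick [0, 1, 3, 6]).gen F_ok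

theorem hL : σ.C.ListsL [H_t.dom, T_t.dom, B_t.dom, E_t.dom, F_t.dom] [σ.H, σ.T, σ.B, σ.E, σ.F] :=
  σ.gH.1.cons <| σ.gT.1.cons <| σ.gB.1.cons <| σ.gE.1.cons <| σ.gF.1.cons Cod.listsL_nil

theorem mem_H {x : G} (h : x * σ.z = σ.z * x) : x ∈ σ.H := σ.cent.le (mem_cen.2 h)

theorem f0 : σ.z * σ.z = 1 ∧ σ.z ≠ 1 ∧ σ.s * σ.s = 1 ∧ σ.s ≠ 1 ∧ σ.z ≠ σ.s ∧ σ.z * σ.s = σ.s * σ.z ∧ σ.T ≤ σ.H ∧
    σ.B ≤ σ.H ∧ σ.z ∈ σ.T ∧ (∀ x ∈ σ.T, (∀ y ∈ σ.T, x * y = y * x) → x = 1 ∨ x = σ.z) ∧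
    σ.d * σ.s * σ.d⁻¹ = σ.a ∧ σ.e * σ.s * σ.e⁻¹ = σ.b := σ.hL.decide σ.rep (by decide +kernel)
theorem f1 : (∀ h ∈ σ.H, h * σ.s = σ.s * h → h * σ.a = σ.a * h → h * σ.f = σ.f * h → h ∈ σ.E) ∧
    ∀ h ∈ σ.H, h * σ.s = σ.s * h → h * σ.b = σ.b * h → h * σ.g = σ.g * h → h ∈ σ.F :=
  σ.hL.decide σ.rep (by decide +kernel)
theorem f2 : ∀ h ∈ σ.H, h * σ.d = σ.d * h → h * h ∈ σ.B ∧ (h * σ.e = σ.e * h → h ∈ σ.B ∨ σ.z * h ∈ σ.B) :=
  σ.hL.decide σ.rep (by decide +kernel)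
theorem f3 : ∀ h ∈ σ.H, h * σ.d * h⁻¹ ∈ σ.B → h * σ.e * h⁻¹ ∈ σ.B → ∀ x ∈ σ.B, h * h * x = x * (h * h) :=
  σ.hL.decide σ.rep (by decide +kernel)
theorem f4 : (∀ x ∈ σ.B, x ^ 3 = 1 ∧ x * σ.z = σ.z * x ∧ (∀ y ∈ σ.B, x * y = y * x) ∧
      ((x = 1 ∨ x = σ.d ∨ x = σ.d⁻¹) ∨ σ.e = x ∨ σ.e = x * σ.d ∨ σ.e = x * σ.d⁻¹ ∨ σ.e = x⁻¹ ∨ σ.e = x⁻¹ * σ.d ∨
        σ.e = x⁻¹ * σ.d⁻¹) ∧
      ∀ y ∈ σ.B, x ≠ 1 → y ≠ 1 → y ≠ x → y ≠ x⁻¹ → ∀ w ∈ σ.B, w = 1 ∨ w = x ∨ w = x⁻¹ ∨ w = y ∨ w = y⁻¹ ∨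
        w = x * y ∨ w = x⁻¹ * y ∨ w = x * y⁻¹ ∨ w = x⁻¹ * y⁻¹) ∧
    σ.d ∈ σ.B ∧ σ.e ∈ σ.B ∧ σ.d ≠ 1 ∧ σ.d ≠ σ.d⁻¹ ∧ (∀ x ∈ σ.B, σ.s * σ.f * x * (σ.s * σ.f)⁻¹ ∈ σ.B) ∧
    orderOf σ.z = 2 ∧ orderOf (σ.s * σ.f) = 2 ∧ σ.z ≠ σ.s * σ.f ∧ σ.z * (σ.s * σ.f) = σ.s * σ.f * σ.z ∧
    σ.b * σ.g * σ.d * (σ.b * σ.g)⁻¹ = σ.d⁻¹ ∧ σ.b * σ.b = 1 ∧ σ.z * (σ.s * σ.f) ≠ σ.z :=
  σ.hL.decide σ.rep (by decide +kernel)
theorem f5 : ∀ x ∈ σ.T, orderOf x = 2 → ∃ h ∈ σ.H, Let (h * x * h⁻¹) fun y => y = σ.z ∨ y = σ.s ∨ y = σ.f ∨ y = σ.g :=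
  σ.hL.decide σ.rep (by decide +kernel)

theorem conj_n {x y : G} (h : σ.n * x * σ.n⁻¹ = y) : σ.n * y * σ.n⁻¹ = x := by
  calc _ = σ.n * σ.n * x * (σ.n * σ.n)⁻¹ := by rw [← h]; group
    _ = x := by rw [σ.n2]; group

theorem relE : (σ.d * σ.n) ^ 5 = 1 ∧ (σ.b * σ.d * σ.n) ^ 8 = 1 := by
  have h0 := (σ.rep.pick [0, 1, 2, 5]).words' wE
  have hE := eps_of_codes (n := 16) h0 σ.gE.1 (by decide +kernel)
  have hC : ∀ x : G, (∀ y ∈ σ.E, x * y = y * x) → x ∈ σ.E := fun x hx =>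
    σ.f1.1 x (σ.mem_H (hx _ (mem_clos (by simp)))) (hx _ (mem_clos (by simp))) (hx _ (mem_clos (by simp)))
      (hx _ (mem_clos (by simp)))
  have cb := ct_of_codes h0 (σ.rep.nth 3) (repP.nth 0) (by decide +kernel)
  have cd := ct_of_codes h0 (σ.rep.nth 7) (repP.nth 1) (by decide +kernel)
  have cn := ct_of_map (g := σ.n) (σ.rep.pick [0, 1, 2, 5]) (σ.rep.pick [1, 0, 5, 2])
    (by simp [σ.nz, σ.na, σ.conj_n σ.nz, σ.conj_n σ.na]) wE (repP.nth 2) (by decide +kernel)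
  refine ⟨hE.pow_eq_one hC (cd.mul cn) p1.1 (repP.fpf (pm16 1 * pm16 2) (by decide +kernel)), ?_⟩
  exact (pow_add _ 4 4).trans (hE.sq _ (hC _ (hE.commute_of_ct_one (p1.2.1 ▸ ((cb.mul cd).mul cn).pow 4))))

theorem relF : (σ.a * σ.e * σ.n) ^ 5 = 1 ∧ (σ.e * σ.n) ^ 8 = 1 := by
  have h0 := (σ.rep.pick [0, 1, 3, 6]).words' wE
  have hE := eps_of_codes (n := 16) h0 σ.gF.1 (by decide +kernel)
  have hC : ∀ x : G, (∀ y ∈ σ.F, x * y = y * x) → x ∈ σ.F := fun x hx =>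
    σ.f1.2 x (σ.mem_H (hx _ (mem_clos (by simp)))) (hx _ (mem_clos (by simp))) (hx _ (mem_clos (by simp)))
      (hx _ (mem_clos (by simp)))
  have ca := ct_of_codes h0 (σ.rep.nth 2) (repP.nth 3) (by decide +kernel)
  have ce := ct_of_codes h0 (σ.rep.nth 9) (repP.nth 4) (by decide +kernel)
  have cn := ct_of_map (g := σ.n) (σ.rep.pick [0, 1, 3, 6]) (σ.rep.pick [1, 0, 6, 3])
    (by simp [σ.nz, σ.nb, σ.conj_n σ.nz, σ.conj_n σ.nb]) wE (repP.nth 5) (by decide +kernel)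
  refine ⟨hE.pow_eq_one hC ((ca.mul ce).mul cn) p1.2.2.1
    (repP.fpf (pm16 3 * pm16 4 * pm16 5) (by decide +kernel)), ?_⟩
  exact (pow_add _ 4 4).trans (hE.sq _ (hC _ (hE.commute_of_ct_one (p1.2.2.2 ▸ (ce.mul cn).pow 4))))

theorem ni : σ.n⁻¹ = σ.n := inv_eq_of_mul_eq_one_right σ.n2

theorem satN : Sat relN σ.l := by
  refine sat_append.2 ⟨Sat.of_take (m := 9) ((σ.rep.take 9).sat (by decide +kernel)) (by decide +kernel), ?_⟩
  have h1 := σ.nz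
  have h2 := σ.na
  have h3 := σ.nb
  have h4 := σ.nc
  obtain ⟨h5, h6⟩ := σ.relE
  have h7 : σ.f * σ.f = 1 ∧ σ.g * σ.g = 1 := σ.hL.decide σ.rep (by decide +kernel)
  rw [σ.ni] at h1 h2 h3
  simp only [pow_succ, pow_zero, one_mul, mul_assoc] at h4 h5 h6
  simp only [exN, sat_cons, sat_nil, evalW_cons, evalW_nil, nth_zero, nth_succ, mul_one, and_true, σ.n2, h4, h5, h6,
    true_and]
  simp only [← mul_assoc, h1, h2, h3, σ.f0.2.2.1, h7, and_self]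

/-- An element of order three permuting `z`, `s f`, `z s f`. -/
def u : G := σ.b * σ.n * σ.d * (σ.b * σ.n)⁻¹

theorem relU : σ.u * σ.d = σ.d * σ.u ∧ σ.u * σ.z * σ.u⁻¹ = σ.z * (σ.s * σ.f) ∧ σ.u⁻¹ * σ.z * σ.u = σ.s * σ.f := by
  have h := U43.satN σ.satN
  have bi := inv_eq_of_mul_eq_one_right σ.f4.2.2.2.2.2.2.2.2.2.2.2.1
  have h2 : (σ.z * (σ.s * σ.f))⁻¹ = σ.z * (σ.s * σ.f) ∧ (σ.s * σ.f)⁻¹ = σ.s * σ.f :=
    σ.hL.decide σ.rep (by decide +kernel)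
  simp only [glN, sat_cons, sat_nil, evalW_cons, evalW_nil, nth_zero, nth_succ, mul_one, and_true] at h
  simp only [u, mul_inv_rev, σ.ni, bi]
  refine ⟨mul_inv_eq_one.1 ?_, ?_, ?_⟩
  · simpa only [mul_inv_rev, inv_inv, σ.ni, bi, mul_assoc] using h.1
  · rw [← h2.1]; exact eq_inv_of_mul_eq_one_left (by simpa only [mul_assoc] using h.2.1)
  · rw [← h2.2]; exact eq_inv_of_mul_eq_one_left (by simpa only [mul_assoc] using h.2.2)

variable [Finite G]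

/-- If all elements of odd order centralising `B` lay in `B`, then `B` would be a Sylow subgroup with too small an
automiser. -/
theorem not_odd_le (h : ∀ x ∈ centralizer (σ.B : Set G), ∃ k : ℕ, x ^ 2 ^ k ∈ σ.B)
    (hS : IsSylIn 2 (zpowers σ.z) (centralizer (σ.B : Set G))) : False := by
  obtain ⟨hB, dB, eB, d1, dd, -, -, -, -, -, md, b2, hu⟩ := σ.f4
  have hN : ∀ x ∈ normalizer (σ.B : Set G), x ∈ σ.H := fun x hx => by
    obtain ⟨k, hk, h1⟩ := hS.frattini (GT.Tr.normalizer_le_normalizer_centralizer _ hx)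
    obtain ⟨v, hv, w, hw, rfl⟩ := hS.exists_mul_of_pow_mem (fun y hy w hw => (hB w hw).2.2.1 y hy)
      (centralizer_le_normalizer _) h hk
    refine (mul_mem_cancel_left (mul_mem ((zpowers_le.2 (σ.mem_H rfl)) hv) (σ.f0.2.2.2.2.2.2.2.1 hw))).1
      (σ.mem_H (mul_inv_eq_iff_eq_mul.1 ?_))
    exact ((mem_zpowers_iff_of_sq σ.f0.1).1 (conj_mem_of_mem_norm h1 (mem_zpowers _))).resolve_left
      fun e => σ.f0.2.1 (conj_eq_one.1 e)
  have hT : IsSylIn 3 σ.B ⊤ := isSylIn_of_normalizer (isSylIn_of_card (k := 2) (m := 128) σ.f0.2.2.2.2.2.2.2.1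
    σ.gB.2 σ.gH.2 (by norm_num)) le_top fun x _ hx => hN x hx
  have d3 := (hB _ dB).1
  have hP : ∀ x : G, x ^ 3 = 1 → IsPGroup 3 (zpowers x) := fun x hx => isPGroup_of_pow (k := 1) fun y hy => by
    obtain ⟨k, rfl⟩ := hy
    rw [pow_one, ← zpow_natCast, ← zpow_mul, mul_comm, zpow_mul, zpow_natCast, hx, one_zpow]
  obtain ⟨g, -, hg⟩ := hT.exists_cj_le ((hP σ.u (by rw [u, conj_pow, d3]; group)).to_sup_of_normal_right' (hP _ d3)
    (zpowers_le.2 (centralizer_le_normalizer _ (fun y hy => by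
      obtain ⟨k, rfl⟩ := hy; exact (Commute.zpow_left σ.relU.1.symm k).eq)))) le_top
  have hx := hg (conj_mem_cj.2 (mem_sup_right (mem_zpowers σ.d)))
  have hy := hg (conj_mem_cj.2 (mem_sup_left (mem_zpowers σ.u)))
  have hz : ∀ x ∈ σ.B, g * σ.u * g⁻¹ ≠ g * x * g⁻¹ := fun x hx e => hu (by
    rw [← σ.relU.2.1, mul_left_cancel (mul_right_cancel e), (hB x hx).2.1, mul_inv_cancel_right])
  have h1 := (hB _ hx).2.2.2.2 _ hy (fun e => d1 (conj_eq_one.1 e)) (by simpa using hz 1 (one_mem _)) (hz _ dB)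
    (by simpa [mul_assoc] using hz _ (inv_mem dB))
  have m1 : g * (σ.b * σ.n) * g⁻¹ * (g * σ.d * g⁻¹) * (g * (σ.b * σ.n) * g⁻¹)⁻¹ = g * σ.u * g⁻¹ := by
    rw [u]; group
  have m2 : g * (σ.b * σ.n) * g⁻¹ * (g * σ.u * g⁻¹) * (g * (σ.b * σ.n) * g⁻¹)⁻¹ = (g * σ.d * g⁻¹)⁻¹ := by
    calc _ = g * (σ.b * (σ.n * σ.b * σ.n) * σ.d * (σ.b * (σ.n * σ.b * σ.n))⁻¹) * g⁻¹ := by rw [u]; group
      _ = _ := by rw [show σ.n * σ.b * σ.n = σ.g by rw [← σ.nb, σ.ni], md]; group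
  generalize g * (σ.b * σ.n) * g⁻¹ = m at m1 m2
  have h2 : ∀ w ∈ σ.B, m * w * m⁻¹ ∈ σ.B := fun w hw => by
    have e1 : ∀ x y : G, m * (x * y) * m⁻¹ = m * x * m⁻¹ * (m * y * m⁻¹) := fun x y => by group
    have e2 : ∀ x : G, m * x⁻¹ * m⁻¹ = (m * x * m⁻¹)⁻¹ := fun x => by group
    generalize g * σ.d * g⁻¹ = x at hx h1 m1 m2
    generalize g * σ.u * g⁻¹ = y at hy h1 m1 m2
    rcases h1 w hw with e | e | e | e | e | e | e | e | e <;> rw [e] <;>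
      simp only [e1, e2, m1, m2, mul_one, mul_inv_cancel, one_mem, inv_mem_iff, hx, hy, mul_mem_cancel_left]
  have h3 := σ.f3 m (hN m (mem_normalizer_of_conj_mem h2)) (h2 _ dB) (h2 _ eB) _ hx
  refine dd (mul_left_cancel (a := g) (mul_right_cancel (b := g⁻¹) ?_))
  calc _ = m * (m * (g * σ.d * g⁻¹) * m⁻¹) * m⁻¹ := by rw [← mul_assoc, ← mul_assoc, h3]; group
    _ = _ := by rw [m1, m2]; group

/-- The relation that comes from the elementary abelian group of order `3⁴`. -/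
theorem rel3 : σ.u * σ.e * σ.u⁻¹ * σ.e = σ.e * (σ.u * σ.e * σ.u⁻¹) := by
  by_contra hne
  obtain ⟨hB, dB, eB, -, -, tB, z2, t2, zt, ztc, -⟩ := σ.f4
  have cd : ∀ x ∈ centralizer (σ.B : Set G), x * σ.d = σ.d * x := fun x hx => (hx _ dB).symm
  have ce : ∀ x ∈ centralizer (σ.B : Set G), x * σ.e = σ.e * x := fun x hx => (hx _ eB).symm
  have zC : σ.z ∈ centralizer (σ.B : Set G) := fun x hx => (hB x hx).2.1
  have hS : IsSylIn 2 (zpowers σ.z) (centralizer (σ.B : Set G)) := by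
    refine ⟨zpowers_le.2 zC, IsPGroup.of_card (n := 1) (by rw [Nat.card_zpowers, z2]; rfl), fun P hP h1 h2 => ?_⟩
    by_contra h3
    obtain ⟨x, ⟨hx, h4⟩, h5⟩ := SetLike.exists_of_lt (lt_inf_normalizer hP (lt_of_le_of_ne h2 (Ne.symm h3)))
    have h6 := ((mem_zpowers_iff_of_sq σ.f0.1).1 (conj_mem_of_mem_norm h4 (mem_zpowers _))).resolve_left
      fun e => σ.f0.2.1 (conj_eq_one.1 e)
    have h7 : ∀ y ∈ P, y ∈ σ.B → y = 1 := fun y hy h8 => by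
      obtain ⟨k, hk⟩ := hP ⟨y, hy⟩
      exact (pow_eq_one_iff_of_coprime (Nat.Coprime.pow_left k (by norm_num : Nat.Coprime 2 3))).1
        ⟨congrArg Subtype.val hk, (hB y h8).1⟩
    rcases (σ.f2 x (σ.mem_H (mul_inv_eq_iff_eq_mul.1 h6)) (cd x (h1 hx))).2 (ce x (h1 hx)) with h8 | h8
    · exact h5 (h7 x hx h8 ▸ one_mem _)
    · exact h5 (eq_inv_of_mul_eq_one_right (h7 _ (mul_mem (h2 (mem_zpowers _)) hx) h8) ▸ inv_mem (mem_zpowers _))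
  obtain ⟨O, h1, h2, h3, h4⟩ := exists_complement hS fun g _ hg v hv => by
    rcases (mem_zpowers_iff_of_sq σ.f0.1).1 hv with rfl | rfl
    · simp
    · exact mul_inv_eq_iff_eq_mul.1 (((mem_zpowers_iff_of_sq σ.f0.1).1
        (conj_mem_of_mem_norm hg hv)).resolve_left fun e => σ.f0.2.1 (conj_eq_one.1 e))
  have ho : ∀ k ∈ O, (orderOf k).Coprime 2 := fun k hk => h3.coprime_dvd_left (O.orderOf_dvd_natCard hk)
  have key : ∀ k ∈ O, ∀ v : G, v * σ.d = σ.d * v → v⁻¹ * k * v * σ.z = σ.z * (v⁻¹ * k * v) →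
      k ∈ σ.B ∨ v * σ.e * v⁻¹ * σ.e = σ.e * (v * σ.e * v⁻¹) := fun k hk v hv hz => by
    have e0 : v * σ.d * v⁻¹ = σ.d := mul_inv_eq_iff_eq_mul.2 hv
    have e1 : v * (v⁻¹ * k * v) * v⁻¹ = k := by group
    have h5 : v⁻¹ * k * v ∈ σ.B := by
      refine GT.Tr.mem_of_pow_mem_of_coprime (n := 2) ((pow_two (v⁻¹ * k * v)).symm ▸ (σ.f2 _ (σ.mem_H hz)
        (comm_of_conj' (g := v) (by rw [e0, e1]; exact cd k (h1 hk)))).1) ?_
      rw [← GT.orderOf_conj _ v, e1]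
      exact ho k hk
    generalize v⁻¹ * k * v = x at e1 h5
    have e2 : ∀ x y : G, v * (x * y) * v⁻¹ = v * x * v⁻¹ * (v * y * v⁻¹) := fun x y => by group
    have e3 : ∀ x : G, v * x⁻¹ * v⁻¹ = (v * x * v⁻¹)⁻¹ := fun x => by group
    have k1 : k ∈ centralizer {σ.e} := mem_cen.2 (ce k (h1 hk))
    have k2 : σ.d ∈ centralizer {σ.e} := mem_cen.2 ((hB _ dB).2.2.1 _ eB)
    rcases (hB x h5).2.2.2.1 with h6 | h6
    · refine .inl (e1 ▸ ?_)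
      rcases h6 with e | e | e <;> rw [e] <;> simp only [e3, e0, dB, inv_mem_iff, mul_one, mul_inv_cancel, one_mem]
    · refine .inr (mem_cen.1 ?_)
      rcases h6 with e | e | e | e | e | e <;> nth_rewrite 2 [e] <;>
        simp only [e2, e3, e0, e1, k1, k2, inv_mem_iff, mul_mem_cancel_left]
  have h5 : O ≤ σ.B := by
    refine GT.le_of_four_group z2 t2 zt ztc (h2 zC) (mem_normalizer_of_conj_mem fun k hk => h4 _ ?_ ?_)
      ((Nat.Prime.coprime_iff_not_dvd Nat.prime_two).1 h3.symm) (fun k hk => ?_) (fun k hk => ?_) fun k hk => ?_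
    · exact conj_mem_of_mem_norm (GT.Tr.normalizer_le_normalizer_centralizer _ (mem_normalizer_of_conj_mem tB))
        (h1 hk)
    · rw [GT.orderOf_conj]; exact ho k hk
    · exact GT.Tr.mem_of_pow_mem_of_coprime (n := 2) ((pow_two k).symm ▸ (σ.f2 _ (σ.mem_H (mem_cen.1 hk.2))
        (cd k (h1 hk.1))).1) (ho k hk.1)
    · refine (key k hk.1 σ.u⁻¹ (Commute.inv_left σ.relU.1).eq (comm_of_conj' (g := σ.u⁻¹) ?_)).resolve_right
        fun e => hne (by simpa [mul_assoc] using (comm_of_conj (g := σ.u) e).symm)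
      simpa [mul_assoc, ← σ.relU.2.2] using mem_cen.1 hk.2
    · refine (key k hk.1 σ.u σ.relU.1 (comm_of_conj' (g := σ.u) ?_)).resolve_right hne
      simpa [mul_assoc, ← σ.relU.2.1] using mem_cen.1 hk.2
  refine σ.not_odd_le (fun x hx => ?_) hS
  obtain ⟨k, hk⟩ := exists_pow_coprime (p := 2) x
  exact ⟨k, h5 (h4 _ (pow_mem hx _) hk)⟩

theorem satG : Sat relG σ.l := by
  refine sat_append.2 ⟨sat_append.2 ⟨σ.satN, Sat.rename ren (σ.rep.sat (by decide +kernel)) (by decide +kernel)⟩, ?_⟩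
  obtain ⟨h1, h2⟩ := σ.relF
  have h3 := mul_inv_eq_one.2 σ.rel3.symm
  have bi := inv_eq_of_mul_eq_one_right σ.f4.2.2.2.2.2.2.2.2.2.2.2.1
  simp only [pow_succ, pow_zero, one_mul, mul_assoc, u, mul_inv_rev, inv_inv, σ.ni, bi] at h1 h2 h3
  simp only [exG, sat_cons, sat_nil, evalW_cons, evalW_nil, nth_zero, nth_succ, mul_one, and_true, h1, h2, h3]

end St

open scoped Pointwise in
theorem exists_model : ∃ (C : Cod A112 (PSU 4 Cl.GF9 3)) (e : List (PSU 4 Cl.GF9 3)), C.RepL cG e ∧ clos e = ⊤ := by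
  let _ := PM.psuAct (n := 4) (q := 3) (Cl.TF.card_eq (D := Cl.gf9)) (by norm_num)
  have h1 := PM.tabs_psu (D := Cl.gf9) (n := 4) (q := 3) rfl (by norm_num) (M := LC.u43M) (m := 2)
    (by decide +kernel) (by decide +kernel) (P := LC.u43P) (N := 280) (T := LC.u43T) (A := LC.u43A)
    (by decide +kernel)
  have h2 := PM.injOn_pts (D := Cl.gf9) (Equiv.refl (Fin 4)) (P := LC.u43P) (N := 280) (by decide +kernel)
  have h3 := h1.blocks h2 (M := LC.u43L) (N := 112) (T' := LC.u43_S) (by decide +kernel)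
  have h4 := injOn_blk h2 (M := LC.u43L) (N := 112) (by decide +kernel)
  obtain ⟨b1, b2⟩ := LC.u43_spec h4 h3 (K := ⊤) (fun _ _ => trivial) (by rw [Subgroup.card_top, LC.card_PSU43])
  obtain ⟨C, hC⟩ := cod_of_tabs h3 h4 (fun a _ => b2 a (mem_top a)) A112_ok c0_ok rfl (by decide +kernel)
  obtain ⟨e, h5, h6⟩ := hC.regen wG_ok w0_ok
  exact ⟨C, e, h5, by rw [h6, ← genLt_eq_clos, b1]⟩

namespace St

variable [Finite G] (σ : St G)
include σ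

theorem H_le : σ.H ≤ clos σ.l := clos_le.2 fun x hx => mem_clos (by
  simp only [List.mem_cons, List.not_mem_nil] at hx ⊢; tauto)

theorem sylT : IsSylIn 2 σ.T ⊤ := by
  obtain ⟨-, z1, -, -, -, -, hT, -, zT, hZ, -⟩ := σ.f0
  exact isSylIn_of_center (σ.cent ▸ isSylIn_of_card (k := 7) (m := 9) hT σ.gT.2 σ.gH.2 (by norm_num)) zT z1 hZ

theorem one_class (K : Subgroup G) (hK : clos σ.l ≤ K) : ∀ x ∈ K, orderOf x = 2 → ∃ g ∈ K, g * x * g⁻¹ = σ.z := by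
  intro x hx h2
  have hH := σ.H_le.trans hK
  obtain ⟨g, hg, h3⟩ := exists_conj_mem_syl (σ.sylT.mono (σ.f0.2.2.2.2.2.2.1.trans hH) le_top) hx (k := 1)
    (by rw [pow_one, ← h2, pow_orderOf_eq_one])
  obtain ⟨h, hh, h4⟩ := σ.f5 _ h3 (by rw [GT.orderOf_conj, h2])
  have n0 : σ.n ∈ K := hK (mem_clos (by simp))
  have d0 : σ.d⁻¹ ∈ K := hK (mem_clos (by simp))
  have e0 : σ.e⁻¹ ∈ K := hK (mem_clos (by simp))
  have h0 := mul_mem (hH hh) hg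
  have h5 : h * g * x * (h * g)⁻¹ = h * (g * x * g⁻¹) * h⁻¹ := by group
  rw [let_iff, ← h5] at h4
  generalize h * g = k at h0 h4
  have e1 := σ.conj_n σ.nz
  rcases h4 with h4 | h4 | h4 | h4
  · exact ⟨k, h0, h4⟩
  · exact ⟨_, mul_mem n0 h0, by rw [← e1, ← h4]; group⟩
  · refine ⟨_, mul_mem n0 (mul_mem d0 (mul_mem n0 h0)), ?_⟩
    calc _ = σ.n * (σ.d⁻¹ * (σ.n * (k * x * k⁻¹) * σ.n⁻¹) * σ.d) * σ.n⁻¹ := by group
      _ = _ := by rw [h4, σ.conj_n σ.na, ← σ.f0.2.2.2.2.2.2.2.2.2.2.1, ← e1]; group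
  · refine ⟨_, mul_mem n0 (mul_mem e0 (mul_mem n0 h0)), ?_⟩
    calc _ = σ.n * (σ.e⁻¹ * (σ.n * (k * x * k⁻¹) * σ.n⁻¹) * σ.e) * σ.n⁻¹ := by group
      _ = _ := by rw [h4, σ.conj_n σ.nb, ← σ.f0.2.2.2.2.2.2.2.2.2.2.2, ← e1]; group

/-- The letters generate the group, which is `U₄(3)`. -/
theorem main : clos σ.l = ⊤ ∧ Nonempty (G ≃* PSU 4 Cl.GF9 3) := by
  obtain ⟨C, e, h1, h2⟩ := exists_model
  have := S0283.result (q := 3) Cl.card_GF9 4 (by decide) (by decide)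
  obtain ⟨z2, z1, s2, s1, zs, hc, -⟩ := σ.f0
  obtain ⟨φ⟩ := presG.nonempty_equiv (h1.sat relG_ok) σ.satG h1.length_eq.symm rfl h2 LC.card_PSU43
    fun e => z1 (mem_bot.1 (e ▸ mem_clos (by simp)))
  have := φ.isSimpleGroup
  have h3 : clos σ.l = ⊤ := eq_top_of_simple (fun h => by
      obtain ⟨k, hk⟩ := IsPGroup.iff_card.1 h
      rw [Nat.card_congr φ.toEquiv, LC.card_PSU43] at hk
      exact absurd (Nat.Prime.dvd_of_dvd_pow Nat.prime_three (hk ▸ (by norm_num : 3 ∣ 3265920))) (by norm_num))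
    (orderOf_eq_two_iff'.2 ⟨z1, z2⟩) (orderOf_eq_two_iff'.2 ⟨s1, s2⟩) zs hc (σ.cent.le.trans σ.H_le)
    (σ.one_class _ le_rfl)
  exact ⟨h3, ⟨(topEquiv.symm.trans (MulEquiv.subgroupCongr h3.symm)).trans φ⟩⟩

theorem equiv (K : Type*) [Field K] [Fintype K] (hK : Fintype.card K = 9) : Nonempty (G ≃* PSU 4 K 3) := by
  obtain ⟨φ⟩ := σ.main.2
  obtain ⟨τ⟩ := Cl.nonempty_ringEquiv_GF9 K hK
  exact ⟨φ.trans (Cl.psuMapEquiv 4 3 τ).symm⟩

end St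

end U43

end Cfsg.Agent.Rec
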