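import Mathlib
import Cfsg.Agent.Spor.ESPair2
import Cfsg.Agent.Spor.ESQuot
import Cfsg.Agent.Rec.X32.Gen

/-!
Two large extraspecial groups `Q`, `R` with centres `z`, `s` and `Q ⊓ R = ⟨z, s⟩`: an involution `n` interchanging
them with `(n c)³ = 1`, and the commutators between `Q` and `R`.
-/

set_option autoImplicit false

namespace Cfsg.Agent.Rec

open Cfsg.Agent.Spor Subgroup

variable {G : Type*} [Group G] {Q R : Subgroup G} {z s c n a b : G}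

theorem exists_swap_three [Finite G] (h : ESPair Q R z s) (hc : c ∈ Q) (c2 : c * c = 1) (hs : s * c ≠ c * s) :
    ∃ n : G, n * n = 1 ∧ (n * c) ^ 3 = 1 ∧ n * z * n⁻¹ = s ∧ ∀ q ∈ Q, n * q * n⁻¹ ∈ R := by
  obtain ⟨g, hg, hg'⟩ := h.conj
  have key : ∀ x : G, x * z * x⁻¹ = s → ∀ q ∈ Q, x * q * x⁻¹ ∈ R := fun x hx q hq => by
    rw [hg, ← h.lgQ.map_conj_eq (hx.trans hg')]; exact conj_mem_map_conj x hq
  obtain ⟨r, hr, hrz, -⟩ := h.symm.exists_q
  obtain ⟨x, -, h1, h2⟩ := h.exists_swap (S := ⊤) hr hc hrz.symm hs.symm trivial trivial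
  have hw := key x h1 c hc
  have w2 : x * c * x⁻¹ * (x * c * x⁻¹) = 1 := conj_sq c2
  have wz : z * (x * c * x⁻¹) ≠ x * c * x⁻¹ * z := fun e => hs (comm_of_conj' (g := x) (by rwa [h2]))
  generalize x * c * x⁻¹ = w at hw w2 wz
  have h3 := h.symm.braid hc hw hs wz
  have h4 : c * w * c⁻¹ * (w * c * w⁻¹) = (c * w) ^ 3 := by
    rw [inv_eq_self_of_sq c2, inv_eq_self_of_sq w2]; simp only [pow_succ, pow_zero, one_mul, mul_assoc]
  rw [h4] at h3
  obtain ⟨h5, h6⟩ := exists_three c2 w2 (by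
    rw [← h.symm.E_sq (h.symm.rad_sq h3)]; simp only [pow_succ, pow_zero, one_mul, mul_assoc])
  have h7 : (c * w) ^ 4 * c * z * ((c * w) ^ 4 * c)⁻¹ = s := by
    have e1 := h.esR.aes.conj_of_ne hw h.z_mem wz.symm
    have e2 := h.esQ.aes.conj_of_ne hc h.s_mem hs.symm
    have e3 : c * z * c⁻¹ = z := mul_inv_eq_iff_eq_mul.2 (h.esQ.z_comm c hc).symm
    have e4 := h.symm.rad_le h3 s h.symm.z_mem_V
    calc _ = (c * w) ^ 3 * (c * (w * (c * z * c⁻¹) * w⁻¹) * c⁻¹) * ((c * w) ^ 3)⁻¹ := by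
          simp only [pow_succ _ 3, mul_inv_rev, mul_assoc]
      _ = (c * w) ^ 3 * (c * (s * z) * c⁻¹) * ((c * w) ^ 3)⁻¹ := by rw [e3, e1]
      _ = (c * w) ^ 3 * ((c * s * c⁻¹) * (c * z * c⁻¹)) * ((c * w) ^ 3)⁻¹ := by group
      _ = s := by
          rw [e2, e3, h.zs_comm, mul_assoc s z z, h.esQ.z_sq, mul_one, ← e4, mul_inv_cancel_right]
  refine ⟨(c * w) ^ 4 * c, ?_, by rw [mul_assoc, c2, mul_one, h5], h7, key _ h7⟩
  calc _ = c⁻¹ * (c * (c * w) ^ 4 * c * (c * w) ^ 4) * c := by group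
    _ = 1 := by rw [h6]; group

/-- The configuration `Q ⊓ R = ⟨z, s⟩`, `⟨c, n⟩ ≅ S₃`. -/
structure Tri (Q R : Subgroup G) (z s c n : G) : Prop where
  pair : ESPair Q R z s
  inf : ∀ v ∈ Q, v ∈ R → v = 1 ∨ v = z ∨ v = s ∨ v = z * s
  cQ : c ∈ Q
  c2 : c * c = 1
  cs : s * c ≠ c * s
  n2 : n * n = 1
  nc : (n * c) ^ 3 = 1
  nz : n * z * n⁻¹ = s
  nQ : ∀ q ∈ Q, n * q * n⁻¹ ∈ R

namespace Tri

variable (h : Tri Q R z s c n)
include h

theorem ns : n * s * n⁻¹ = z := by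
  calc _ = n * n * z * (n * n)⁻¹ := by rw [← h.nz]; group
    _ = z := by rw [h.n2]; group

theorem fz (has : a * s = s * a) : z * (n * a * n⁻¹) = n * a * n⁻¹ * z := h.ns ▸ comm_of_conj has.symm

theorem braid : n * c * n⁻¹ = c * n * c⁻¹ := by
  have h1 := h.nc
  rw [inv_eq_self_of_sq h.n2, inv_eq_self_of_sq h.c2]
  calc _ = (n * c) ^ 3 * (c * n * c)⁻¹ := by simp only [pow_succ, pow_zero, one_mul]; group
    _ = _ := by rw [h1, one_mul, mul_inv_rev, mul_inv_rev, inv_eq_self_of_sq h.n2, inv_eq_self_of_sq h.c2, mul_assoc]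

theorem comm_inf {v x : G} (hv : v = 1 ∨ v = z ∨ v = s ∨ v = z * s) (hz : x * z = z * x) (hs : x * s = s * x) :
    x * v = v * x ∧ v * v = 1 := by
  have e1 := h.pair.esQ.z_sq
  have e2 := h.pair.esR.z_sq
  rcases hv with rfl | rfl | rfl | rfl
  · simp
  · exact ⟨hz, e1⟩
  · exact ⟨hs, e2⟩
  · exact ⟨by rw [← mul_assoc, hz, mul_assoc, hs, mul_assoc], by
      rw [mul_assoc, ← mul_assoc s z, ← h.pair.zs_comm, mul_assoc, e2, mul_one, e1]⟩

/-- An involution `a` of `Q` centralising `s` and `c` commutes with `f = n a n`, and `[f, c] = a`. -/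
theorem comm_self (ha : a ∈ Q) (a2 : a * a = 1) (has : a * s = s * a) (hac : a * c = c * a) :
    n * a * n⁻¹ * a = a * (n * a * n⁻¹) ∧ n * a * n⁻¹ * c * (n * a * n⁻¹)⁻¹ = a * c := by
  have fR := h.nQ a ha
  have f2 : n * a * n⁻¹ * (n * a * n⁻¹) = 1 := conj_sq a2
  have fz := h.fz has
  have nf : n * (n * a * n⁻¹) * n⁻¹ = a := by
    calc _ = n * n * a * (n * n)⁻¹ := by group
      _ = a := by rw [h.n2]; group
  have h1 : n * (c * (n * a * n⁻¹) * c⁻¹) * n⁻¹ = c * (n * a * n⁻¹) * c⁻¹ := by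
    calc _ = n * c * n⁻¹ * (n * (n * a * n⁻¹) * n⁻¹) * (n * c * n⁻¹)⁻¹ := by group
      _ = c * n * (c⁻¹ * (a * c)) * n⁻¹ * c⁻¹ := by rw [nf, h.braid]; group
      _ = _ := by rw [hac]; group
  generalize n * a * n⁻¹ = f at fR f2 fz nf h1 ⊢
  have fi := inv_eq_self_of_sq f2
  have ci := inv_eq_self_of_sq h.c2
  have uQ : f * c * f⁻¹ * c⁻¹ ∈ Q := mul_mem (h.pair.lgQ.norm f fz c h.cQ) (inv_mem h.cQ)
  have h2 : f * c * f⁻¹ * c⁻¹ * a⁻¹ ∈ R := by
    have e : f * c * f⁻¹ * c⁻¹ * a⁻¹ = f * (a * (n * (f * c * f⁻¹ * c⁻¹) * n⁻¹) * a⁻¹) := by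
      calc _ = f * (c * f⁻¹ * c⁻¹) * a⁻¹ := by group
        _ = f * (n * (c * f * c⁻¹) * n⁻¹) * a⁻¹ := by rw [h1, fi]
        _ = f * ((n * f * n⁻¹)⁻¹ * (n * (f * c * f * c⁻¹) * n⁻¹) * a⁻¹) := by group
        _ = _ := by rw [nf, inv_eq_self_of_sq a2, fi]
    exact e ▸ mul_mem fR (h.pair.lgR.norm a has.symm _ (h.nQ _ uQ))
  have h3 := h.inf _ (mul_mem uQ (inv_mem ha)) h2
  obtain ⟨v, hv⟩ : ∃ v, f * c * f⁻¹ * c⁻¹ * a⁻¹ = v := ⟨_, rfl⟩
  rw [hv] at h3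
  have e1 : c * f * c⁻¹ = f * v * a := by rw [← hv, ← mul_assoc, ← mul_assoc, ← mul_assoc, ← mul_assoc, f2, fi]; group
  have e2 : f * c * f⁻¹ = v * a * c := by rw [← hv]; group
  obtain ⟨fv, v2⟩ := h.comm_inf h3 fz.symm (h.pair.esR.z_comm f fR).symm
  have av := (h.comm_inf h3 (h.pair.esQ.z_comm a ha).symm has).1
  have fa : f * a = a * f := by
    have e3 : f * v * a * (f * v * a) = 1 := e1 ▸ conj_sq f2
    have e4 : f * a * (f * a) = 1 := by
      calc _ = f * (v * v) * a * (f * a) := by rw [v2, mul_one]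
        _ = f * v * (v * a) * f * a := by group
        _ = f * v * a * (v * f) * a := by rw [← av]; group
        _ = 1 := by rw [← fv, ← e3]; group
    rw [← inv_eq_self_of_sq e4, mul_inv_rev, fi, inv_eq_self_of_sq a2]
  have nv : n * v * n⁻¹ = v := by
    have na : n * a * n⁻¹ = f := by
      calc _ = n * n * f * (n * n)⁻¹ := by rw [← nf]; group
        _ = f := by rw [h.n2]; group
    have e3 : a * (n * v * n⁻¹) * f = a * v * f := by
      calc _ = n * f * n⁻¹ * (n * v * n⁻¹) * (n * a * n⁻¹) := by rw [nf, na]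
        _ = n * (f * v * a) * n⁻¹ := by group
        _ = f * v * a := by rw [← e1, h1]
        _ = _ := by rw [fv, mul_assoc, fa, av, mul_assoc]
    exact mul_left_cancel (mul_right_cancel e3)
  have cv : c * v * c⁻¹ = v := by
    have e3 : v * a * c * (v * a * c) = 1 := e2 ▸ conj_sq h.c2
    calc _ = v⁻¹ * a⁻¹ * ((a * v) * c * (v * a * c)) * c⁻¹ * a⁻¹ * c⁻¹ := by group
      _ = v⁻¹ * a⁻¹ * (a * c)⁻¹ * c⁻¹ := by rw [av, e3]; group
      _ = v := by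
          rw [hac, mul_inv_rev, ci, inv_eq_self_of_sq a2, inv_eq_self_of_sq v2, mul_assoc, mul_assoc a c c, h.c2,
            mul_one, mul_assoc, a2, mul_one]
  refine ⟨fa, ?_⟩
  rcases h3 with rfl | rfl | rfl | rfl
  · rw [e2, one_mul]
  · exact absurd (nv.symm.trans h.nz) h.pair.ne
  · exact absurd (mul_inv_eq_iff_eq_mul.1 cv).symm h.cs
  · refine absurd (mul_left_cancel (a := z) ?_) h.cs
    rw [← mul_assoc, ← mul_inv_eq_iff_eq_mul.1 cv, ← mul_assoc, ← mul_assoc, h.pair.esQ.z_comm c h.cQ]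

theorem comm_aux (ha : a ∈ Q) (a2 : a * a = 1) (has : a * s = s * a) (hac : a * c = c * a) (hb : b ∈ Q)
    (hbs : b * s = s * b) (hbc : b * c = c * b) (hab : a * b ≠ b * a) :
    n * a * n⁻¹ * b * (n * a * n⁻¹)⁻¹ * b⁻¹ = s ∨ n * a * n⁻¹ * b * (n * a * n⁻¹)⁻¹ * b⁻¹ = z * s := by
  have e1 := (h.comm_self ha a2 has hac).2
  have fR := h.nQ a ha
  have fz := h.fz has
  generalize n * a * n⁻¹ = f at e1 fR fz ⊢
  have e2 := comm_of_conj (g := f) hbc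
  have h1 := h.inf _ (mul_mem (h.pair.lgQ.norm f fz b hb) (inv_mem hb)) (by
    have e : f * b * f⁻¹ * b⁻¹ = f * (b * f⁻¹ * b⁻¹) := by group
    exact e ▸ mul_mem fR (h.pair.lgR.norm b hbs.symm _ (inv_mem fR)))
  rw [e1] at e2
  rcases h1 with h1 | h1 | h1
  · rw [mul_inv_eq_one.1 h1, mul_assoc a, ← hbc, ← mul_assoc, ← mul_assoc] at e2
    exact absurd (mul_right_cancel e2).symm hab
  · rw [mul_inv_eq_iff_eq_mul.1 h1, ← mul_assoc (a * c), ← h.pair.esQ.z_comm _ (mul_mem ha h.cQ), mul_assoc z,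
      mul_assoc z, mul_assoc a, ← hbc, ← mul_assoc b, ← mul_assoc a] at e2
    exact absurd (mul_right_cancel (mul_left_cancel e2)).symm hab
  · exact h1

/-- `[n a n, b] = z s` for non-commuting involutions `a`, `b` of `Q` centralising `s` and `c`. -/
theorem comm_pair (ha : a ∈ Q) (a2 : a * a = 1) (has : a * s = s * a) (hac : a * c = c * a) (hb : b ∈ Q)
    (b2 : b * b = 1) (hbs : b * s = s * b) (hbc : b * c = c * b) (hab : a * b ≠ b * a) :
    n * a * n⁻¹ * b * (n * a * n⁻¹)⁻¹ * b⁻¹ = z * s := by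
  refine (h.comm_aux ha a2 has hac hb hbs hbc hab).resolve_left fun h1 => ?_
  have h2 : (n * b * n⁻¹ * a * (n * b * n⁻¹)⁻¹ * a⁻¹)⁻¹ = z := by
    calc _ = (n * n * a * (n * n)⁻¹) * (n * b * n⁻¹) * (n * n * a * (n * n)⁻¹)⁻¹ * (n * b * n⁻¹)⁻¹ := by
          rw [h.n2]; group
      _ = n * (n * a * n⁻¹ * b * (n * a * n⁻¹)⁻¹ * b⁻¹) * n⁻¹ := by group
      _ = z := by rw [h1, h.ns]
  rcases h.comm_aux hb b2 hbs hbc ha has hac hab.symm with h3 | h3
  · rw [h3, h.pair.esR.z_inv] at h2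
    exact h.pair.ne h2.symm
  · rw [h3, mul_inv_rev, h.pair.esR.z_inv, h.pair.esQ.z_inv] at h2
    exact h.pair.esR.z_ne (mul_eq_right.1 h2)

end Tri

end Cfsg.Agent.Rec
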