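import Mathlib
import Cfsg.Agent.Rec.U43.Main
import Cfsg.Agent.Rec.U43.Tri
import Cfsg.Agent.Spor.ESFstar

/-! From the hypothesis on the centraliser of an involution to the letters of `U₄(3)`. -/

set_option autoImplicit false
set_option synthInstance.maxSize 100000
set_option synthInstance.maxHeartbeats 1000000

namespace Cfsg.Agent.Rec.U43

open Cfsg.Agent.Spor Cfsg.Agent.Inv.Fz Subgroup

universe u

/-- The group `SL₂(3)`. -/
abbrev S23 : Type := Matrix.SpecialLinearGroup (Fin 2) (ZMod 3)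

theorem sl_gen : (∀ x : S23, x * x = 1 → x = 1 ∨ x = -1) ∧ ∃ i x : S23, x ^ 3 = 1 ∧ (i⁻¹ * x) ^ 3 = 1 ∧
    i * (x * (i * (x * (i⁻¹ * x)))) = 1 ∧ i * i = -1 ∧
    ∀ y, ∃ (k : Fin 3) (a : Fin 4) (b : Fin 2), y = x ^ (k : ℕ) * i ^ (a : ℕ) * (x * i * x⁻¹) ^ (b : ℕ) := by
  decide +kernel

variable {G : Type u} [Group G]

theorem exists_sl {K : Subgroup G} (φ : K ≃* S23) {z : G} (hz : z ∈ K) (z1 : z ≠ 1) (z2 : z * z = 1) :
    ∃ i x : G, x ^ 3 = 1 ∧ (i⁻¹ * x) ^ 3 = 1 ∧ i * (x * (i * (x * (i⁻¹ * x)))) = 1 ∧ i * i = z ∧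
      clos [i, i⁻¹, x, x⁻¹] = K := by
  obtain ⟨h0, i, x, h1, h2, h3, h4, h5⟩ := sl_gen
  let ψ : S23 →* G := K.subtype.comp φ.symm.toMonoidHom
  have h6 : ψ (φ ⟨z, hz⟩) = z := by simp [ψ]
  refine ⟨ψ i, ψ x, ?_, ?_, ?_, ?_, le_antisymm (clos_le.2 ?_) fun y hy => ?_⟩
  · rw [← map_pow, h1, map_one]
  · rw [← map_inv, ← map_mul, ← map_pow, h2, map_one]
  · simp only [← map_inv, ← map_mul, h3, map_one]
  · rw [← map_mul, h4, ← h6, (h0 (φ ⟨z, hz⟩) (by rw [← map_mul, ← map_one φ]; exact congrArg φ (Subtype.ext z2))).resolve_left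
      fun e => z1 (by rw [← h6, e, map_one])]
  · simp [ψ]
  · obtain ⟨k, a, b, e⟩ := h5 (φ ⟨y, hy⟩)
    have h7 : y = ψ (φ ⟨y, hy⟩) := by simp [ψ]
    have m1 : ψ i ∈ clos [ψ i, (ψ i)⁻¹, ψ x, (ψ x)⁻¹] := mem_clos (by simp)
    have m2 : ψ x ∈ clos [ψ i, (ψ i)⁻¹, ψ x, (ψ x)⁻¹] := mem_clos (by simp)
    rw [h7, e]
    simp only [map_mul, map_pow, map_inv]
    exact mul_mem (mul_mem (pow_mem m2 _) (pow_mem m1 _)) (pow_mem (mul_mem (mul_mem m2 m1) (inv_mem m2)) _)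

theorem codK {e : List G} (hl : e.length = 8) (hs : Sat relK e) (hz : evalW (nth 1 e) [0, 0] ≠ 1) :
    ∃ C : Cod A G, C.RepL cK e := by
  have h₀ := repL_permOf A_ok cK_ok
  generalize List.map _ cK = e₀ at h₀
  have hQ := (h₀.words (wK.take 5) (by decide +kernel)).gen Q_ok
  generalize clos (List.map (evalW (nth 1 e₀)) (wK.take 5)) = R at hQ
  refine presK.cod_of_normal h₀ (h₀.sat (by decide +kernel)) h₀.length_eq.symm (h₀.gen K_ok).2 (W := [[0, 0]])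
    (fun K hK hn h1 => ⟨[0, 0], by simp, ?_⟩) hs hl (by simpa using hz)
  have hL := h₀.lists.cons ((h₀.gen K_ok).1.cons (hQ.1.cons Cod.listsL_nil))
  have hF : Finite R := Nat.finite_of_card_ne_zero (by rw [hQ.2]; norm_num)
  exact mem_of_normal_es (R := R) (hL.decide ((h₀.word [0, 0]).cons Cod.repL_nil) (by decide +kernel)) hK hn h1

/-- The codes of the letters in `SL₂(3) ∘ SL₂(3)`. -/
noncomputable def c9 : List ℕ := [0, 1, 2, 3, 4, 7, 8, 9, 10].map (nth A.one cH)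

/-- Letters in the central product of two groups `SL₂(3)`. -/
theorem exists_K {K₁ K₂ : Subgroup G} (φ₁ : K₁ ≃* S23) (φ₂ : K₂ ≃* S23) {z : G} (h₁ : z ∈ K₁) (h₂ : z ∈ K₂)
    (z1 : z ≠ 1) (z2 : z * z = 1) (hz : ∀ x ∈ K₁, x * z = z * x)
    (hc : ∀ x ∈ K₁, ∀ y ∈ K₂, x * y * x⁻¹ * y⁻¹ = 1 ∨ x * y * x⁻¹ * y⁻¹ = z) :
    ∃ (C : Cod A G) (s a b c d e : G), C.RepL c9 [z, s, a, b, c, d, d⁻¹, e, e⁻¹] ∧
      C.Lists K_t.dom (K₁ ⊔ K₂ : Subgroup G) ∧ Nat.card (K₁ ⊔ K₂ : Subgroup G) = 288 := by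
  obtain ⟨i, x, a1, a2, a3, a4, a5⟩ := exists_sl φ₁ h₁ z1 z2
  obtain ⟨j, y, b1, b2, b3, b4, b5⟩ := exists_sl φ₂ h₂ z1 z2
  have key : ∀ t ∈ K₁, t ^ 3 = 1 → ∀ w ∈ K₂, t * w * t⁻¹ = w := fun t ht t3 w hw => by
    refine (hc t ht w hw).elim mul_inv_eq_one.1 fun h => absurd ?_ z1
    have e1 : t * w * t⁻¹ = z * w := mul_inv_eq_iff_eq_mul.1 h
    have e2 : t * z * t⁻¹ = z := mul_inv_eq_iff_eq_mul.2 (hz t ht)
    have e3 : t * (z * w) * t⁻¹ = w := by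
      calc _ = t * z * t⁻¹ * (t * w * t⁻¹) := by group
        _ = w := by rw [e1, e2, ← mul_assoc, z2, one_mul]
    refine mul_eq_right.1 (?_ : z * w = w)
    calc _ = t * (t * (t * w * t⁻¹) * t⁻¹) * t⁻¹ := by rw [e1, e3, e1]
      _ = t ^ 3 * w * (t ^ 3)⁻¹ := by simp only [pow_succ, pow_zero, one_mul]; group
      _ = w := by rw [t3]; group
  have mi : i ∈ K₁ := a5 ▸ mem_clos (by simp)
  have mx : x ∈ K₁ := a5 ▸ mem_clos (by simp)
  have cx := key x mx a1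
  have ci : ∀ w ∈ K₂, i * w * i⁻¹ = w := fun w hw => by
    calc i * w * i⁻¹ = i * (i⁻¹ * x * w * (i⁻¹ * x)⁻¹) * i⁻¹ := by rw [key _ (mul_mem (inv_mem mi) mx) a2 w hw]
      _ = x * w * x⁻¹ := by group
      _ = w := cx w hw
  have mj : j ∈ K₂ := b5 ▸ mem_clos (by simp)
  have my : y ∈ K₂ := b5 ▸ mem_clos (by simp)
  obtain ⟨C, hC⟩ := codK (e := [i, i⁻¹, x, x⁻¹, j, j⁻¹, y, y⁻¹]) rfl (by
    simp only [pow_succ, pow_zero, one_mul, mul_assoc] at a1 b1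
    simp only [relK, sat_cons, sat_nil, evalW_cons, evalW_nil, nth_zero, nth_succ, mul_one, and_true, mul_inv_cancel,
      inv_mul_cancel, true_and, a1, a3, b1, b3]
    simp only [← mul_assoc, ci j mj, ci y my, cx j mj, cx y my, mul_inv_cancel, and_true]
    rw [a4, ← b4]; group) (by simpa [a4] using z1)
  have h1 : clos [i, i⁻¹, x, x⁻¹, j, j⁻¹, y, y⁻¹] = K₁ ⊔ K₂ := by
    refine le_antisymm (clos_le.2 ?_) (sup_le (a5 ▸ clos_le.2 fun t ht => mem_clos ?_) (b5 ▸ clos_le.2 fun t ht =>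
      mem_clos ?_))
    · simp [mem_sup_left mi, mem_sup_left mx, mem_sup_right mj, mem_sup_right my]
    all_goals simp only [List.mem_cons, List.not_mem_nil] at ht ⊢; tauto
  subst a4
  exact ⟨C, j * i, y * j * y⁻¹ * x * i * x⁻¹, y * j * y⁻¹ * x⁻¹ * i * x, y⁻¹ * j * y * i, y * x, y * x⁻¹,
    (hC.term _ (by decide +kernel)).cons <| (hC.term _ (by decide +kernel)).cons <|
    (hC.term _ (by decide +kernel)).cons <| (hC.term _ (by decide +kernel)).cons <|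
    (hC.term _ (by decide +kernel)).cons <| (hC.term _ (by decide +kernel)).cons <|
    (hC.term _ (by decide +kernel)).cons <| (hC.term _ (by decide +kernel)).cons <|
    (hC.term _ (by decide +kernel)).cons Cod.repL_nil, h1 ▸ hC.gen K_ok⟩

theorem rw_inv {f x y : G} (f2 : f * f = 1) (h : f * x * f⁻¹ = y) :
    f * (x * f) = y ∧ ∀ w, f * (x * (f * w)) = y * w := by
  rw [inv_eq_self_of_sq f2] at h
  exact ⟨by rw [← h, mul_assoc], fun w => by rw [← h]; simp only [mul_assoc]⟩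

theorem conj_act (f : G) {d q q' p p' : G} (h : d * q * d⁻¹ = q') (h1 : f * q * f⁻¹ = p) (h2 : f * q' * f⁻¹ = p') :
    f * d * f⁻¹ * p * (f * d * f⁻¹)⁻¹ = p' := by rw [← h1, ← h2, ← h]; group

theorem conj_mul' {f x y p q : G} (h1 : f * x * f⁻¹ = p) (h2 : f * y * f⁻¹ = q) : f * (x * y) * f⁻¹ = p * q := by
  rw [← h1, ← h2]; group

/-- The letters of `U₄(3)`. -/
theorem exists_st [Finite G] {C : Cod A G} {z s a b c d e : G} (h : C.RepL c9 [z, s, a, b, c, d, d⁻¹, e, e⁻¹])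
    {K : Subgroup G} (hK : C.Lists K_t.dom K) (h3 : ∀ x : G, x * z = z * x → x ^ 3 = 1 → x ∈ K)
    (hl : Lg (clos [z, s, a, b, c]) z) {g : G} (hg : g * z * g⁻¹ ∈ clos [z, s, a, b, c]) (hg' : g * z * g⁻¹ ≠ z)
    (h4 : ∀ g : G, g * z * g⁻¹ = s → Nat.card ↥(clos [z, s, a, b, c] ⊓
      (clos [z, s, a, b, c]).map (MulAut.conj g).toMonoidHom) = 4)
    (hc : Nat.card (centralizer ({z} : Set G)) = 1152) : ∃ σ : St G, σ.z = z := by
  have hQ := (h.pick [0, 1, 2, 3, 4]).gen Q_ok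
  have hV := (h.pick [0, 1]).gen V_ok
  simp only [List.map_cons, List.map_nil, nth_zero, nth_succ] at hQ hV
  generalize clos [z, s, a, b, c] = Q at hl hg h4 hQ
  have hL := hK.cons (hQ.1.cons (hV.1.cons Cod.listsL_nil))
  have es : ES2 Q z := ⟨hl.aes.z_mem, hl.aes.z_ne, hl.aes.z_sq, hl.aes.z_comm, hl.aes.comm,
    hL.decide h (by decide +kernel), hL.decide h (by decide +kernel)⟩
  have q1 : ∀ t ∈ Q, t * t = 1 → t ≠ 1 → t ≠ z → ∃ k ∈ K, k * t * k⁻¹ = s := hL.decide h (by decide +kernel)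
  obtain ⟨k, -, hk⟩ := q1 _ hg (conj_sq es.z_sq) (fun e => es.z_ne (conj_eq_one.1 e)) hg'
  replace hk : k * g * z * (k * g)⁻¹ = s := by rw [← hk]; group
  obtain ⟨⟨sQ, aQ, bQ, cQ, sz, a2, b2, c2, s2⟩, ⟨as, bs, cs, ac, bc, ab, d3, e3, dz, ez⟩, q2, ds, da, db, dc, es', ea,
      eb, ec⟩ : (s ∈ Q ∧ a ∈ Q ∧ b ∈ Q ∧ c ∈ Q ∧ s ≠ z ∧ a * a = 1 ∧ b * b = 1 ∧ c * c = 1 ∧ s * s = 1) ∧
      (a * s = s * a ∧ b * s = s * b ∧ s * c ≠ c * s ∧ a * c = c * a ∧ b * c = c * b ∧ a * b ≠ b * a ∧ d ^ 3 = 1 ∧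
        e ^ 3 = 1 ∧ d * z = z * d ∧ e * z = z * e) ∧
      (∀ v ∈ clos [z, s], v = 1 ∨ v = z ∨ v = s ∨ v = z * s) ∧ d * s * d⁻¹ = a ∧ d * a * d⁻¹ = a * s ∧
      d * b * d⁻¹ = c ∧ d * c * d⁻¹ = c * b ∧ e * s * e⁻¹ = b ∧ e * a * e⁻¹ = c ∧ e * b * e⁻¹ = b * s * z ∧
      e * c * e⁻¹ = c * a * z := hL.decide h (by decide +kernel)
  have hp := ESPair.of_width es hl (g := k * g) (by rw [hQ.2]; norm_num) (hk ▸ sQ) (hk ▸ sz)
  have h5 := h4 _ hk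
  rw [hk] at hp
  generalize Q.map (MulAut.conj (k * g)).toMonoidHom = R at hp h5
  obtain ⟨n, n2, nc, nz, nQ⟩ := exists_swap_three hp cQ c2 cs
  have T : Tri Q R z s c n := ⟨hp, fun v h6 h7 => q2 v ((Subgroup.eq_of_le_of_card_ge (H := clos [z, s]) (K := Q ⊓ R)
    (clos_le.2 (by simp [es.z_mem, sQ, hp.z_mem, hp.esR.z_mem])) (h5.trans hV.2.symm).le).ge ⟨h6, h7⟩),
    cQ, c2, cs, n2, nc, nz, nQ⟩
  obtain ⟨fa, fc⟩ := T.comm_self aQ a2 as ac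
  obtain ⟨gb, gc⟩ := T.comm_self bQ b2 bs bc
  have fb := mul_inv_eq_iff_eq_mul.1 (T.comm_pair aQ a2 as ac bQ b2 bs bc ab)
  have ga := mul_inv_eq_iff_eq_mul.1 (T.comm_pair bQ b2 bs bc aQ a2 as ac ab.symm)
  have fz := (T.fz as).symm
  have gz := (T.fz bs).symm
  have fs := mul_inv_eq_iff_eq_mul.2 (hp.esR.z_comm _ (nQ a aQ)).symm
  have gs := mul_inv_eq_iff_eq_mul.2 (hp.esR.z_comm _ (nQ b bQ)).symm
  have f2 : n * a * n⁻¹ * (n * a * n⁻¹) = 1 := conj_sq a2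
  have g2 : n * b * n⁻¹ * (n * b * n⁻¹) = 1 := conj_sq b2
  have fg : n * a * n⁻¹ * (n * b * n⁻¹) * (n * a * n⁻¹)⁻¹ = s * (n * b * n⁻¹) := by
    calc _ = n * (a * b * a⁻¹) * n⁻¹ := by group
      _ = _ := by rw [es.aes.conj_of_ne aQ bQ ab, conj_mul' nz rfl]
  obtain ⟨f, hf⟩ : ∃ f, n * a * n⁻¹ = f := ⟨_, rfl⟩
  obtain ⟨g, hg⟩ : ∃ g, n * b * n⁻¹ = g := ⟨_, rfl⟩
  rw [hf] at fa fc fb fz fs f2 fg
  rw [hg] at gb gc ga gz gs g2 fg
  replace fa := mul_inv_eq_iff_eq_mul.2 fa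
  replace gb := mul_inv_eq_iff_eq_mul.2 gb
  have fz' := mul_inv_eq_iff_eq_mul.2 fz
  have gz' := mul_inv_eq_iff_eq_mul.2 gz
  have mem : ∀ f d : G, f * z = z * f → d * z = z * d → d ^ 3 = 1 → f * d * f⁻¹ ∈ K ∧ (f * d * f⁻¹) ^ 3 = 1 :=
    fun f d h1 h2 h6 => by
      have h7 : (f * d * f⁻¹) ^ 3 = 1 := by rw [conj_pow, h6]; group
      exact ⟨h3 _ (((show Commute f z from h1).mul_left h2).mul_left (show Commute f z from h1).inv_left) h7, h7⟩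
  obtain ⟨r1, r2, r3, r4⟩ : (∀ y ∈ K, y ^ 3 = 1 → y * s * y⁻¹ = a → y * a * y⁻¹ = a * s →
        y * (z * s * b) * y⁻¹ = a * c → y * (a * c) * y⁻¹ = a * c * (z * s * b) → y = d * a) ∧
      (∀ y ∈ K, y ^ 3 = 1 → y * s * y⁻¹ = z * s * a → y * (z * s * a) * y⁻¹ = z * s * a * s →
        y * b * y⁻¹ = b * c → y * (b * c) * y⁻¹ = b * c * b → y = c * d⁻¹) ∧
      (∀ y ∈ K, y ^ 3 = 1 → y * s * y⁻¹ = z * s * b → y * a * y⁻¹ = a * c →
        y * (z * s * b) * y⁻¹ = z * s * b * s * z → y * (a * c) * y⁻¹ = a * c * a * z → y = b * z * e⁻¹) ∧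
      ∀ y ∈ K, y ^ 3 = 1 → y * s * y⁻¹ = b → y * (z * s * a) * y⁻¹ = b * c →
        y * b * y⁻¹ = b * s * z → y * (b * c) * y⁻¹ = b * c * (z * s * a) * z → y = s * z * e :=
    hL.decide h (by decide +kernel)
  have fd := r1 _ (mem f d fz dz d3).1 (mem f d fz dz d3).2 (conj_act f ds fs fa) (conj_act f da fa (conj_mul' fa fs))
    (conj_act f db fb fc) (conj_act f dc fc (conj_mul' fc fb))
  have gd := r2 _ (mem g d gz dz d3).1 (mem g d gz dz d3).2 (conj_act g ds gs ga) (conj_act g da ga (conj_mul' ga gs))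
    (conj_act g db gb gc) (conj_act g dc gc (conj_mul' gc gb))
  have fe := r3 _ (mem f e fz ez e3).1 (mem f e fz ez e3).2 (conj_act f es' fs fb) (conj_act f ea fa fc)
    (conj_act f eb fb (conj_mul' (conj_mul' fb fs) fz')) (conj_act f ec fc (conj_mul' (conj_mul' fc fa) fz'))
  have ge := r4 _ (mem g e gz ez e3).1 (mem g e gz ez e3).2 (conj_act g es' gs gb) (conj_act g ea ga gc)
    (conj_act g eb gb (conj_mul' (conj_mul' gb gs) gz')) (conj_act g ec gc (conj_mul' (conj_mul' gc ga) gz'))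
  have fD : f * d⁻¹ * f⁻¹ = (d * a)⁻¹ := by rw [← fd]; group
  obtain ⟨C', hC⟩ := codH (e := [z, s, a, b, c, f, g, d, d⁻¹, e, e⁻¹]) rfl (by
    simp only [relH, relP, relT, exP, exH, sat_append, sat_cons, sat_nil, evalW_cons, evalW_nil, nth_zero, nth_succ,
      mul_one, and_true, f2, g2, true_and, rw_inv f2 fz', rw_inv f2 fs, rw_inv f2 fa, rw_inv f2 fc, rw_inv g2 gz',
      rw_inv g2 gs, rw_inv g2 gb, rw_inv g2 gc, rw_inv g2 ga, rw_inv f2 fD, rw_inv g2 gd, rw_inv f2 fe, rw_inv g2 ge,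
      show s * (f * (g * (f * g))) = 1 by rw [(rw_inv f2 fg).2, mul_assoc, g2, mul_one, s2]]
    exact hL.decide h (by decide +kernel)) es.z_ne
  have h6 : clos [z, s, a, b, c, f, g, d, d⁻¹, e, e⁻¹] ≤ centralizer {z} :=
    clos_le.2 fun x hx => mem_cen.2 ((hC.lists.cons Cod.listsL_nil).decide
      (P := ∀ x ∈ {x | x ∈ [z, s, a, b, c, f, g, d, d⁻¹, e, e⁻¹]}, x * z = z * x) hC (by decide +kernel) x hx)
  exact ⟨⟨z, s, a, b, c, f, g, d, e, n, C', hC,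
    (Subgroup.eq_of_le_of_card_ge h6 (hc.trans (hC.gen H_ok).2.symm).le).symm, n2, nz, hf, hg, nc⟩, rfl⟩

/-- The hypothesis of type `U₄(3)` gives the letters. -/
theorem exists_st_of_hyp [Finite G] (z : G) (hz : orderOf z = 2) (H₁ H₂ : Subgroup (centralizer ({z} : Set G)))
    (hK : H₁ ⊔ H₂ = closure {x : centralizer ({z} : Set G) | Odd (orderOf x)})
    (hn₁ : (H₁.subgroupOf (H₁ ⊔ H₂)).Normal) (hn₂ : (H₂.subgroupOf (H₁ ⊔ H₂)).Normal) (e₁ : H₁ ≃* S23)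
    (e₂ : H₂ ≃* S23) (hmeet : (H₁ ⊓ H₂).map (centralizer ({z} : Set G)).subtype = zpowers z)
    (Q : Subgroup (centralizer ({z} : Set G))) [Q.Normal] (hQ : Q = (pCore 2 ↥(H₁ ⊔ H₂)).map (H₁ ⊔ H₂).subtype)
    (hF : generalizedFittingSubgroup (centralizer ({z} : Set G)) = Q)
    (hnwc : ∃ g : G, (∃ hq : g * z * g⁻¹ ∈ centralizer ({z} : Set G),
      (⟨g * z * g⁻¹, hq⟩ : centralizer ({z} : Set G)) ∈ Q) ∧ g * z * g⁻¹ ≠ z)
    (hH : Nat.card (centralizer ({z} : Set G)) = 2 ^ 7 * 3 ^ 2)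
    (hQQg : ∀ g : G, g * z * g⁻¹ ∈ Q.map (centralizer ({z} : Set G)).subtype → g * z * g⁻¹ ≠ z →
      Nat.card ↥(Q.map (centralizer ({z} : Set G)).subtype ⊓
        (Q.map (centralizer ({z} : Set G)).subtype).map (MulAut.conj g).toMonoidHom) = 4) : ∃ σ : St G, σ.z = z := by
  obtain ⟨z1, z2⟩ := orderOf_eq_two_iff'.1 hz
  have hi := (centralizer ({z} : Set G)).subtype_injective
  have hz' := hmeet.ge (mem_zpowers z)
  obtain ⟨C, s, a, b, c, d, e, h, h1, h2⟩ := exists_K ((H₁.equivMapOfInjective _ hi).symm.trans e₁)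
    ((H₂.equivMapOfInjective _ hi).symm.trans e₂) (map_mono inf_le_left hz') (map_mono inf_le_right hz') z1 z2
    (by rintro _ ⟨x, -, rfl⟩; exact mem_cen.1 x.2) (by
      rintro _ ⟨x, hx, rfl⟩ _ ⟨y, hy, rfl⟩
      refine (mem_zpowers_iff_of_sq z2).1 (hmeet.le ⟨x * y * x⁻¹ * y⁻¹, ⟨?_, ?_⟩, rfl⟩)
      · have e : x * y * x⁻¹ * y⁻¹ = x * (y * x⁻¹ * y⁻¹) := by group
        rw [e]
        exact H₁.mul_mem hx (conj_mem_of_mem_norm ((normal_subgroupOf_iff_le_normalizer le_sup_left).1 hn₁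
          (mem_sup_right hy)) (H₁.inv_mem hx))
      · exact H₂.mul_mem (conj_mem_of_mem_norm ((normal_subgroupOf_iff_le_normalizer le_sup_right).1 hn₂
          (mem_sup_left hx)) hy) (H₂.inv_mem hy))
  rw [← Subgroup.map_sup] at h1 h2
  have g1 := (h.pick [0, 1, 2, 3, 4]).gen Q_ok
  simp only [List.map_cons, List.map_nil, nth_zero, nth_succ] at g1
  have hL := h1.cons (g1.1.cons Cod.listsL_nil)
  have h3 : Q.map (centralizer ({z} : Set G)).subtype = clos [z, s, a, b, c] := by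
    obtain ⟨q1, q2⟩ : clos [z, s, a, b, c] ≤ (H₁ ⊔ H₂).map (centralizer ({z} : Set G)).subtype ∧
        ∀ k ∈ (H₁ ⊔ H₂).map (centralizer ({z} : Set G)).subtype, ∀ q ∈ clos [z, s, a, b, c],
          k * q * k⁻¹ ∈ clos [z, s, a, b, c] := hL.decide h (by decide +kernel)
    have hS := isSylIn_of_card (p := 2) (k := 5) (m := 9) q1 g1.2 h2 (by norm_num)
    refine hS.eq_of_le (hQ ▸ ((GT.isPGroup_pCore 2).map _).map _) (map_mono (hQ ▸ map_subtype_le _)) fun x hx => ?_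
    obtain ⟨y, hy, rfl⟩ := q1 hx
    have hn : (((clos [z, s, a, b, c]).comap (centralizer ({z} : Set G)).subtype).comap (H₁ ⊔ H₂).subtype).Normal :=
      ⟨fun q hq k => q2 _ ⟨k, k.2, rfl⟩ _ hq⟩
    exact ⟨y, hQ ▸ ⟨⟨y, hy⟩, GT.le_pCore (hN := hn) (hS.isPGroup.comap_subtype.comap_subtype) hx, rfl⟩, rfl⟩
  have es : ES2 (clos [z, s, a, b, c]) z := ⟨mem_clos (by simp), z1, z2, hL.decide h (by decide +kernel),
    hL.decide h (by decide +kernel), hL.decide h (by decide +kernel), hL.decide h (by decide +kernel)⟩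
  obtain ⟨g, ⟨hq, hg⟩, hg'⟩ := hnwc
  have sz : s ≠ z := hL.decide h (by decide +kernel)
  rw [h3] at hQQg
  refine exists_st h h1 (fun x hx x3 => ⟨⟨x, mem_cen.2 hx⟩, hK.ge (subset_closure ?_), rfl⟩)
    (es2_lg_of_fstar hz (hF ▸ h3) es.isExtraspecial).2.1 (h3.le ⟨_, hg, rfl⟩) hg'
    (fun k hk => hQQg k (hk ▸ mem_clos (by simp)) (hk ▸ sz)) hH
  exact (by decide : Odd 3).of_dvd_nat (orderOf_dvd_of_pow_eq_one (Subtype.ext x3))

end Cfsg.Agent.Rec.U43
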